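import Cfsg.Agent.Lib.SporRecognition.Cert.Fi23Conf.Base
import Cfsg.Agent.Lib.SporRecognition.Cert.O7C.Fix23
import Cfsg.Agent.Lib.SporRecognition.FischerAut.Fi22Cent

/-! Involutions of the presented Fi23 that centralise an element of order 13. -/

set_option autoImplicit false
set_option linter.constructorNameAsVariable false
set_option maxRecDepth 4000

namespace CfsgLib.SporRecognition.FischerAut.F23

open CfsgLib.SporRecognition.CosetCert
open CfsgLib.SporRecognition.Cert
open Cfsg.Agent.S1688 (R23 R22 of23 embW zH zH_central coe_zH orderOf_zH coe_evalW_g card23)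
open Cfsg.Spor.Fi23 (Gen)

abbrev G23 : Type := PresentedGroup R23

/-- The element of order 13. -/
def y : List (Gen × Bool) :=
  [(.g, true), (.e, true), (.i, true), (.d, true), (.b, true), (.c, true), (.h, true), (.f, true)]

theorem y_eq : embW O7C.y13 = y := by decide +kernel

theorem orderOf_y : orderOf (evalW of23 y) = 13 := by
  haveI : Fact (Nat.Prime 13) := ⟨by norm_num⟩
  have hY : ∀ u, u < 31671 → trace (wordTabs Fi23X.tabs y) u = O7C.Y23 u :=
    fun u hu => (Nat.eq_of_beq_eq_true (allBelow_spec O7C.y23Eq u hu)).symm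
  have key : ∀ k, ∀ u : Fin 31671,
      ((Fi23X.certified.hom (evalW of23 y ^ k) u : Fin 31671) : Nat) = iter O7C.Y23 k u := by
    intro k
    induction k with
    | zero => intro u; rw [pow_zero, map_one]; rfl
    | succ k ih =>
      intro u
      rw [pow_succ, map_mul, Equiv.Perm.mul_apply, ih, hom_word, hY u u.2, iter_succ]
  refine orderOf_eq_prime ?_ ?_
  · apply Cfsg.Agent.S1688.hom_injective
    refine Equiv.ext fun u => Fin.ext ?_
    rw [key, map_one, Equiv.Perm.one_apply]
    exact Nat.eq_of_beq_eq_true (allBelow_spec O7C.pow23 u u.2)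
  · intro h
    have h2 := congrArg (fun g => ((Fi23X.certified.hom g ⟨8003, by decide⟩ : Fin 31671) : Nat)) h
    simp only [hom_word, map_one, Equiv.Perm.one_apply] at h2
    revert h2
    decide +kernel

/-- An involution commuting with `y` and fixing the base point is central in its stabiliser. -/
theorem stab_involution (s : G23) (hs : s * s = 1) (hc : Commute s (evalW of23 y))
    (h0 : Fi23X.certified.hom s 0 = 0) : s = 1 ∨ s = evalW of23 Fi23Conf.zw := by
  have hmem : s ∈ Cfsg.Agent.S1688.H := mem_of_fix Fi23X.certified s h0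
  let S : Cfsg.Agent.S1688.H := ⟨s, hmem⟩
  let Y : Cfsg.Agent.S1688.H := evalW Cfsg.Agent.S1688.g O7C.y13
  have hY : (Y : G23) = evalW of23 y := by rw [coe_evalW_g, y_eq]
  obtain ⟨hcard, ⟨e⟩, -⟩ := Cfsg.Agent.S1688.main
  let π : Cfsg.Agent.S1688.H →* PresentedGroup R22 :=
    e.toMonoidHom.comp (QuotientGroup.mk' (Subgroup.center Cfsg.Agent.S1688.H))
  have hker : ∀ X, π X = 1 → X ∈ Subgroup.center Cfsg.Agent.S1688.H := fun X hX => by
    rw [← QuotientGroup.eq_one_iff]
    exact e.injective (hX.trans (map_one e).symm)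
  have hcen : ∀ X ∈ Subgroup.center Cfsg.Agent.S1688.H, X = 1 ∨ X = zH := by
    intro X hX
    by_contra h
    obtain ⟨h1, h2⟩ := not_or.mp h
    obtain ⟨c, -, hu⟩ := (Nat.card_eq_two_iff' (1 : Subgroup.center Cfsg.Agent.S1688.H)).mp hcard
    have hz : zH ≠ 1 := fun h => by simpa [h] using orderOf_zH
    have e1 := hu ⟨X, hX⟩ (fun h => h1 (congrArg Subtype.val h))
    have e2 := hu ⟨zH, zH_central⟩ (fun h => hz (congrArg Subtype.val h))
    exact h2 (congrArg Subtype.val (e1.trans e2.symm))
  have hoY : orderOf Y = 13 := by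
    rw [← orderOf_y, ← hY]
    exact (orderOf_injective (Cfsg.Agent.S1688.H).subtype (Cfsg.Agent.S1688.H).subtype_injective Y).symm
  haveI : Fact (Nat.Prime 13) := ⟨by norm_num⟩
  have hπY : orderOf (π Y) = 13 := by
    refine orderOf_eq_prime ?_ ?_
    · rw [← map_pow, ← hoY, pow_orderOf_eq_one, map_one]
    · intro h
      rcases hcen Y (hker Y h) with h | h
      · rw [h, orderOf_one] at hoY
        exact absurd hoY (by decide)
      · rw [h, orderOf_zH] at hoY
        exact absurd hoY (by decide)
  have hπS : π S = 1 := by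
    refine F22.involution13 _ _ ?_ hπY (Commute.map ?_ π)
    · rw [← map_mul, show S * S = 1 from Subtype.ext hs, map_one]
    · exact Subtype.ext (show s * (Y : G23) = (Y : G23) * s by rw [hY]; exact hc.eq)
  rcases hcen S (hker S hπS) with h | h
  · exact Or.inl (congrArg Subtype.val h)
  · exact Or.inr ((congrArg Subtype.val h).trans coe_zH)

theorem tau_commute (q : Fin 31671) (hq : trace (wordTabs Fi23X.tabs y) q = q) :
    Commute (evalW of23 y) (tau Fi23X.certified Fi23Conf.zw q) := by
  have h : Fi23X.certified.hom (evalW of23 y) q = q := by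
    apply Fin.ext
    rw [hom_word]
    exact hq
  rw [commute_iff_eq, ← mul_inv_eq_iff_eq_mul, Fi23Conf.base.heq, h]

/-- An involution centralising an element of order 13 is a transposition. -/
theorem involution13 (t x : G23) (ht : t * t = 1) (hne : t ≠ 1) (hx : orderOf x = 13)
    (hc : Commute t x) : ∃ v, t = tau Fi23X.certified Fi23Conf.zw v := by
  haveI : Finite G23 := Nat.finite_of_card_ne_zero (by rw [card23]; decide)
  haveI : Fact (Nat.Prime 13) := ⟨by norm_num⟩
  obtain ⟨g, hg⟩ := exists_conj_commute (p := 13) (by rw [card23]; decide) x _ t hx orderOf_y hc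
  suffices h : ∃ v, g * t * g⁻¹ = tau Fi23X.certified Fi23Conf.zw v by
    obtain ⟨v, hv⟩ := h
    refine ⟨Fi23X.certified.hom g⁻¹ v, ?_⟩
    rw [← Fi23Conf.base.heq, ← hv]
    group
  have hs2 : g * t * g⁻¹ * (g * t * g⁻¹) = 1 := by
    rw [show g * t * g⁻¹ * (g * t * g⁻¹) = g * (t * t) * g⁻¹ by group, ht]
    group
  have hsne : g * t * g⁻¹ ≠ 1 := fun e => hne (conj_eq_one_iff.mp e)
  generalize g * t * g⁻¹ = s at hg hs2 hsne ⊢
  have base0 : ∀ s : G23, s * s = 1 → s ≠ 1 → Commute s (evalW of23 y) → Fi23X.certified.hom s 0 = 0 →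
      ∃ v, s = tau Fi23X.certified Fi23Conf.zw v := by
    intro s h2 hn hc h0
    rcases stab_involution s h2 hc h0 with h | h
    · exact absurd h hn
    · exact ⟨0, by rw [h, Fi23Conf.base.tau_zero]⟩
  let u1 : Fin 31671 := ⟨27477, by decide⟩
  let u2 : Fin 31671 := ⟨28472, by decide⟩
  have hy : ∀ u : Fin 31671, Fi23X.certified.hom (evalW of23 y) u = u ↔ u = 0 ∨ u = u1 ∨ u = u2 := by
    intro u
    rw [Fin.ext_iff, hom_word]
    constructor
    · intro h
      have hh := allBelow_spec O7C.fix13 _ u.2
      rw [show ([(Gen.g, true), (.e, true), (.i, true), (.d, true), (.b, true), (.c, true), (.h, true), (.f, true)] :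
        List (Gen × Bool)) = y from rfl, h, Nat.beq_refl, cond_true] at hh
      simp only [Bool.or_eq_true, Nat.beq_eq] at hh
      rcases hh with (hh | hh) | hh
      exacts [Or.inl (Fin.ext hh), Or.inr (Or.inl (Fin.ext hh)), Or.inr (Or.inr (Fin.ext hh))]
    · rintro (rfl | rfl | rfl) <;> decide +kernel
  have hmove : ∀ (w : List (Gen × Bool)) (q u : Fin 31671),
      trace (wordTabs Fi23X.tabs w) 0 = q → trace (wordTabs Fi23X.tabs y) q = q →
      trace (wordTabs Fi23X.tabs (w ++ Fi23Conf.zw ++ w.reverse.map fun x => (x.1, !x.2))) u = 0 →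
      Fi23X.certified.hom s u = u → ∃ v, s = tau Fi23X.certified Fi23Conf.zw v := by
    intro w q u hw hq hu hsu
    set c := tau Fi23X.certified Fi23Conf.zw q with hcdef
    have hcy : Commute c (evalW of23 y) := (tau_commute q hq).symm
    have hrev : evalW of23 (w.reverse.map fun x => (x.1, !x.2)) = (evalW of23 w)⁻¹ := by
      simp only [evalW_eq_prod, List.prod_inv_reverse, List.map_reverse, List.map_map]
      congr 2
      refine List.map_congr_left fun x _ => ?_
      rcases x with ⟨a, _ | _⟩ <;> simp
    have hcu : Fi23X.certified.hom c u = 0 := by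
      apply Fin.ext
      rw [hcdef, Fi23Conf.base.tau_word w q hw, ← hrev, ← evalW_append, ← evalW_append, hom_word, hu]
      rfl
    obtain ⟨v, hv⟩ := base0 (c * s * c⁻¹)
      (by rw [show c * s * c⁻¹ * (c * s * c⁻¹) = c * (s * s) * c⁻¹ by group, hs2]; group)
      (fun e => hsne (conj_eq_one_iff.mp e))
      ((hcy.mul_left hg).mul_left hcy.inv_left) (by
        rw [map_mul, map_mul, map_inv, Equiv.Perm.mul_apply, Equiv.Perm.mul_apply,
          show (Fi23X.certified.hom c)⁻¹ 0 = u by rw [Equiv.Perm.inv_eq_iff_eq, hcu], hsu, hcu])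
    refine ⟨Fi23X.certified.hom c⁻¹ v, ?_⟩
    rw [← Fi23Conf.base.heq, ← hv]
    group
  rcases exists_fix_of_three (Fi23X.certified.hom s)
    (fun u => by rw [← Equiv.Perm.mul_apply, ← map_mul, hs2, map_one, Equiv.Perm.one_apply]) 0 u1 u2
    (by decide) (by decide) (by decide)
    (fun u hu => (hy _).mp (by
      rw [← Equiv.Perm.mul_apply, ← map_mul, ← hg.eq, map_mul, Equiv.Perm.mul_apply, (hy u).mpr hu]))
    with h0 | h1 | h2
  · exact base0 s hs2 hsne hg h0
  · exact hmove [(.j, true), (.a, true), (.b, true), (.c, true), (.d, true), (.h, true), (.i, true), (.e, true), (.d, true), (.h, true), (.e, true), (.f, true), (.g, true), (.d, true), (.e, true), (.f, true), (.c, true), (.d, true), (.e, true), (.a, true), (.b, true), (.c, true), (.d, true), (.h, true), (.i, true), (.f, true), (.c, true), (.d, true), (.e, true), (.b, true), (.c, true), (.d, true), (.h, true), (.a, true), (.b, true), (.c, true), (.d, true), (.e, true), (.f, true), (.g, true), (.j, true)] ⟨28472, by decide⟩ u1 (by decide +kernel) (by decide +kernel)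 (by decide +kernel) h1
  · exact hmove [(.j, true), (.a, true), (.b, true), (.c, true), (.d, true), (.h, true), (.i, true), (.d, true), (.e, true), (.c, true), (.d, true), (.h, true), (.f, true), (.g, true), (.e, true), (.f, true), (.c, true), (.d, true), (.e, true), (.b, true), (.c, true), (.d, true), (.h, true), (.i, true), (.f, true), (.c, true), (.d, true), (.e, true), (.b, true), (.c, true), (.d, true), (.h, true), (.a, true), (.b, true), (.c, true), (.d, true), (.e, true), (.f, true), (.g, true), (.j, true)] ⟨27477, by decide⟩ u2 (by decide +kernel) (by decide +kernel) (by decide +kernel) h2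

end CfsgLib.SporRecognition.FischerAut.F23
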